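import Mathlib

/-!
Arithmetic for the largest element order of `PGU_d(q)`.

An orbit of length `n` of `a ↦ (a ^ q)⁻¹` consists of elements killed by `tOrd q n`; the numbers
`uOrd q n = tOrd q n / (q + 1)` satisfy `uOrd q n ≤ q ^ (n - 1)`.
-/

set_option autoImplicit false

namespace Cfsg.Agent.Lib.MaxOrderGU

open Finset

/-- `q ^ n - (-1) ^ n`. -/
def tOrd (q n : ℕ) : ℕ := if Even n then q ^ n - 1 else q ^ n + 1

/-- `(q ^ n - (-1) ^ n) / (q + 1)`. -/
def uOrd (q n : ℕ) : ℕ := tOrd q n / (q + 1)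

theorem succ_dvd_tOrd (q n : ℕ) : q + 1 ∣ tOrd q n := by
  unfold tOrd
  split_ifs with h
  · obtain ⟨h', rfl⟩ := h
    rw [← two_mul, pow_mul]
    refine dvd_trans ?_ (Nat.sub_one_dvd_pow_sub_one (q ^ 2) h')
    exact ⟨q - 1, by simpa using Nat.sq_sub_sq q 1⟩
  · simpa using (Nat.not_even_iff_odd.1 h).nat_add_dvd_pow_add_pow q 1

theorem succ_mul_uOrd (q n : ℕ) : (q + 1) * uOrd q n = tOrd q n :=
  Nat.mul_div_cancel' (succ_dvd_tOrd q n)

theorem tOrd_pos {q n : ℕ} (hq : 2 ≤ q) (hn : 1 ≤ n) : 0 < tOrd q n := by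
  unfold tOrd
  split_ifs
  · have : 1 < q ^ n := Nat.one_lt_pow (by omega) (by omega)
    omega
  · omega

theorem uOrd_pos {q n : ℕ} (hq : 2 ≤ q) (hn : 1 ≤ n) : 0 < uOrd q n := by
  refine Nat.pos_of_ne_zero fun h => ?_
  have := succ_mul_uOrd q n
  have := tOrd_pos hq hn
  simp_all

theorem uOrd_le {q n : ℕ} (hq : 1 ≤ q) (hn : 1 ≤ n) : uOrd q n ≤ q ^ (n - 1) := by
  have h : tOrd q n ≤ q ^ n + 1 := by unfold tOrd; split_ifs <;> omega
  refine Nat.le_of_mul_le_mul_left ?_ (Nat.succ_pos q)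
  obtain ⟨i, rfl⟩ : ∃ i, n = i + 1 := ⟨n - 1, by omega⟩
  rw [Nat.succ_eq_add_one, succ_mul_uOrd, Nat.add_sub_cancel]
  rw [pow_succ] at h
  have := Nat.one_le_pow i q hq
  calc tOrd q (i + 1) ≤ q ^ i * q + 1 := h
    _ ≤ (q + 1) * q ^ i := by nlinarith

theorem uOrd_one (q : ℕ) : uOrd q 1 = 1 := by
  simp [uOrd, tOrd]

theorem prod_uOrd_le {α : Type*} [DecidableEq α] {q : ℕ} (hq : 1 ≤ q) (s : Finset α) (f : α → ℕ)
    (hf : ∀ a ∈ s, 1 ≤ f a) :
    (∏ a ∈ s, uOrd q (f a)) ≤ q ^ ((∑ a ∈ s, f a) - s.card) ∧ s.card ≤ ∑ a ∈ s, f a := by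
  induction s using Finset.induction_on with
  | empty => simp
  | insert a s ha ih =>
    obtain ⟨ih1, ih2⟩ := ih fun b hb => hf b (mem_insert_of_mem hb)
    have h1 := hf a (mem_insert_self a s)
    rw [prod_insert ha, sum_insert ha, card_insert_of_notMem ha]
    refine ⟨?_, by omega⟩
    rw [show f a + ∑ b ∈ s, f b - (s.card + 1) = (f a - 1) + ((∑ b ∈ s, f b) - s.card) by omega, pow_add]
    exact Nat.mul_le_mul (uOrd_le hq h1) ih1

theorem pow_clog_le {p m : ℕ} (hp : 2 ≤ p) (hm : 2 ≤ m) : p ^ Nat.clog p m ≤ p * (m - 1) := by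
  obtain ⟨k, hk⟩ : ∃ k, Nat.clog p m = k + 1 :=
    ⟨Nat.clog p m - 1, (Nat.sub_add_cancel (Nat.clog_pos hp hm)).symm⟩
  have hlt : p ^ k < m := by
    by_contra h
    have := Nat.clog_le_of_le_pow (not_lt.1 h) (b := p)
    omega
  rw [hk, pow_succ']
  exact Nat.mul_le_mul_left _ (by omega)

/-- The largest element order in dimension `d` (`d ≥ 3`, `q` a power of the prime `p`). -/
def target (p q d : ℕ) : ℕ :=
  if Odd d then (if q = p then (p ^ (d - 2) + 1) * p else q ^ (d - 1) - 1)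
  else (if q = 2 then 4 * (2 ^ (d - 3) + 1) else q ^ (d - 1) + 1)

theorem target_ge {p q d : ℕ} (hd : 3 ≤ d) :
    q ^ (d - 1) - 1 ≤ target p q d ∧ (Even d → q ^ (d - 1) + 1 ≤ target p q d) := by
  unfold target
  have h2 : q = p → (p ^ (d - 2) + 1) * p = q ^ (d - 1) + q := by
    rintro rfl
    rw [show d - 1 = d - 2 + 1 by omega, pow_succ]; ring
  have h3 : q = 2 → 4 * (2 ^ (d - 3) + 1) = q ^ (d - 1) + 4 := by
    rintro rfl
    rw [show d - 1 = d - 3 + 2 by omega, pow_add]; ring
  refine ⟨?_, fun he => ?_⟩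
  · split_ifs with h h' h''
    · have := h2 h'; omega
    · exact le_rfl
    · have := h3 h''; omega
    · omega
  · rw [if_neg (Nat.not_odd_iff_even.2 he)]
    split_ifs with h
    · have := h3 h; omega
    · exact le_rfl

theorem sq_sub_one_pow {q d : ℕ} (hq : 2 ≤ q) (hd : 3 ≤ d) : (q + 1) * q ^ (d - 3) ≤ q ^ (d - 1) - 1 := by
  have h1 : 0 < q ^ (d - 3) := Nat.one_le_pow _ _ (by omega)
  have h3 : q + 2 ≤ q ^ 2 := by nlinarith
  have h2 : (q + 2) * q ^ (d - 3) ≤ q ^ (d - 1) := by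
    rw [show d - 1 = 2 + (d - 3) by omega, pow_add]
    exact Nat.mul_le_mul_right _ h3
  have h4 : (q + 2) * q ^ (d - 3) = (q + 1) * q ^ (d - 3) + q ^ (d - 3) := by ring
  omega

/-- A single orbit. -/
theorem single_bound {p q d n m : ℕ} (hp : 2 ≤ p) (hpq : p ≤ q) (hd : 3 ≤ d)
    (h32 : ¬ (d = 3 ∧ q = 2)) (hnm : n * m = d) :
    uOrd q n * p ^ Nat.clog p m ≤ target p q d := by
  have hq : 2 ≤ q := hp.trans hpq
  obtain ⟨hT, hT'⟩ := target_ge (p := p) (q := q) hd
  have hn : 1 ≤ n := by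
    rcases Nat.eq_zero_or_pos n with h | h
    · simp [h] at hnm; omega
    · exact h
  have hm1 : 1 ≤ m := by
    rcases Nat.eq_zero_or_pos m with h | h
    · simp [h] at hnm; omega
    · exact h
  rcases eq_or_lt_of_le hm1 with rfl | hm
  · rw [Nat.clog_one_right, pow_zero, mul_one]
    rw [mul_one] at hnm
    subst hnm
    refine le_trans ?_ hT
    refine Nat.le_of_mul_le_mul_left ?_ (Nat.succ_pos q)
    rw [Nat.succ_eq_add_one, succ_mul_uOrd, Nat.mul_sub, mul_one]
    have h1 : tOrd q n ≤ q ^ n + 1 := by unfold tOrd; split_ifs <;> omega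
    have h2 : q ^ 2 ≤ q ^ (n - 1) := Nat.pow_le_pow_right (by omega) (by omega)
    have h3 : q + 2 ≤ q ^ 2 := by nlinarith
    have h4 : (q + 1) * q ^ (n - 1) = q ^ n + q ^ (n - 1) := by
      conv_rhs => rw [show n = n - 1 + 1 by omega, pow_succ]
      simp only [Nat.add_sub_cancel]; ring
    omega
  · refine le_trans ?_ hT
    have hpe : p ^ Nat.clog p m ≤ q * (m - 1) :=
      (pow_clog_le hp hm).trans (Nat.mul_le_mul_right _ hpq)
    rcases eq_or_lt_of_le hn with rfl | hn2
    · rw [uOrd_one, one_mul]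
      rw [one_mul] at hnm
      subst hnm
      refine hpe.trans ?_
      have key : m ≤ q ^ (m - 2) := by
        rcases eq_or_lt_of_le hd with rfl | hd4
        · have : q ≠ 2 := fun h => h32 ⟨rfl, h⟩
          simp; omega
        · have h5 : ∀ j, j + 4 ≤ 2 ^ (j + 2) := by
            intro j
            induction j with
            | zero => norm_num
            | succ j ih => rw [pow_succ]; omega
          obtain ⟨j, rfl⟩ : ∃ j, m = j + 4 := ⟨m - 4, by omega⟩
          exact (h5 j).trans (Nat.pow_le_pow_left hq _)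
      rw [show q ^ (m - 1) = q * q ^ (m - 2) by rw [← pow_succ']; congr 1; omega, Nat.mul_sub, mul_one]
      have := Nat.mul_le_mul_left q key
      omega
    · have h6 : ∀ j, j + 1 ≤ q ^ j := fun j => (Nat.lt_pow_self hq : j < q ^ j)
      have h7 : uOrd q n * p ^ Nat.clog p m ≤ q ^ (d - 2) := by
        calc uOrd q n * p ^ Nat.clog p m ≤ q ^ (n - 1) * (q * q ^ (m - 2)) := by
              refine Nat.mul_le_mul (uOrd_le (by omega) hn) (hpe.trans (Nat.mul_le_mul_left _ ?_))
              have := h6 (m - 2); omega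
          _ = q ^ (n - 1 + (1 + (m - 2))) := by rw [pow_add, pow_add, pow_one]
          _ ≤ q ^ (d - 2) := by
              refine Nat.pow_le_pow_right (by omega) ?_
              have : n + m ≤ n * m := by nlinarith
              omega
      have h8 : q ^ (d - 1) = q ^ (d - 2) * q := by rw [← pow_succ]; congr 1; omega
      have h9 : q ^ (d - 2) * 2 ≤ q ^ (d - 2) * q := Nat.mul_le_mul_left _ hq
      have h10 : 1 ≤ q ^ (d - 2) := Nat.one_le_pow _ _ (by omega)
      omega

/-- Two orbits with simple roots. -/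
theorem pair_bound {p q d a b : ℕ} (hq : 2 ≤ q) (hd : 3 ≤ d) (ha : 1 ≤ a) (hb : 1 ≤ b) (hab : a + b = d) :
    (q + 1) * uOrd q a * uOrd q b ≤ target p q d := by
  obtain ⟨hT, hT'⟩ := target_ge (p := p) (q := q) hd
  rw [succ_mul_uOrd]
  refine Nat.le_of_mul_le_mul_left ?_ (Nat.succ_pos q)
  rw [Nat.succ_eq_add_one, mul_left_comm, succ_mul_uOrd]
  have hpow : q ^ d = q ^ a * q ^ b := by rw [← hab, pow_add]
  have hqd : (q + 1) * q ^ (d - 1) = q ^ d + q ^ (d - 1) := by
    conv_rhs => rw [show d = d - 1 + 1 by omega, pow_succ]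
    simp only [Nat.add_sub_cancel]; ring
  have h2 : q ^ 2 ≤ q ^ (d - 1) := Nat.pow_le_pow_right (by omega) (by omega)
  have h3 : q + 2 ≤ q ^ 2 := by nlinarith
  have hqa : 1 ≤ q ^ a := Nat.one_le_pow _ _ (by omega)
  have hqb : 1 ≤ q ^ b := Nat.one_le_pow _ _ (by omega)
  have hsmall : ∀ {a b : ℕ}, a + b = d → 1 ≤ b → q ^ a + q ^ b ≤ q ^ (d - 1) + q ^ b := fun hab hb =>
    Nat.add_le_add_right (Nat.pow_le_pow_right (by omega) (by omega)) _
  rcases Nat.even_or_odd d with he | ho
  · refine le_trans ?_ (Nat.mul_le_mul_left _ (hT' he))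
    rw [mul_add, mul_one, hqd, hpow]
    unfold tOrd
    split_ifs with h1 h4 h4
    · have : (q ^ a - 1) * (q ^ b - 1) ≤ q ^ a * q ^ b :=
        Nat.mul_le_mul (Nat.sub_le _ _) (Nat.sub_le _ _)
      omega
    · exact absurd (Nat.even_add.1 (hab ▸ he) |>.1 h1) h4
    · exact absurd (Nat.even_add.1 (hab ▸ he) |>.2 h4) h1
    · have key : q ^ a + q ^ b ≤ q ^ (d - 1) + q := by
        rcases eq_or_lt_of_le ha with rfl | ha2
        · have := Nat.pow_le_pow_right (show 0 < q by omega) (show b ≤ d - 1 by omega)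
          rw [pow_one]; omega
        rcases eq_or_lt_of_le hb with rfl | hb2
        · have := Nat.pow_le_pow_right (show 0 < q by omega) (show a ≤ d - 1 by omega)
          rw [pow_one]; omega
        have h8 : q ^ (d - 1) = q ^ (d - 2) * q := by rw [← pow_succ]; congr 1; omega
        have := Nat.pow_le_pow_right (show 0 < q by omega) (show a ≤ d - 2 by omega)
        have := Nat.pow_le_pow_right (show 0 < q by omega) (show b ≤ d - 2 by omega)
        have h9 : q ^ (d - 2) * 2 ≤ q ^ (d - 2) * q := Nat.mul_le_mul_left _ hq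
        omega
      calc (q ^ a + 1) * (q ^ b + 1) = q ^ a * q ^ b + (q ^ a + q ^ b) + 1 := by ring
        _ ≤ _ := by omega
  · refine le_trans ?_ (Nat.mul_le_mul_left _ hT)
    rw [Nat.mul_sub, mul_one, hqd, hpow]
    have hoe : ∀ {a b : ℕ}, a + b = d → Odd a → 1 ≤ a →
        (q ^ a + 1) * (q ^ b - 1) ≤ q ^ a * q ^ b + q ^ (d - 1) - (q + 1) := by
      intro a b hab hoa ha
      have hqb : 1 ≤ q ^ b := Nat.one_le_pow _ _ (by omega)
      obtain ⟨x, hx⟩ : ∃ x, q ^ b = x + 1 := ⟨q ^ b - 1, by omega⟩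
      rw [hx, Nat.add_sub_cancel]
      have e1 : (q ^ a + 1) * x = q ^ a * x + x := by ring
      have e2 : q ^ a * (x + 1) = q ^ a * x + q ^ a := by ring
      rw [e1, e2]
      rcases eq_or_lt_of_le ha with rfl | ha2
      · have hb' : b = d - 1 := by omega
        rw [← hb', hx, pow_one]; omega
      · have ha3 : 3 ≤ a := by obtain ⟨i, rfl⟩ := hoa; omega
        have h8 : q ^ b ≤ q ^ (d - 3) := Nat.pow_le_pow_right (by omega) (by omega)
        have h9 := sq_sub_one_pow hq hd
        have h10 : 1 * q ^ (d - 3) ≤ (q + 1) * q ^ (d - 3) := Nat.mul_le_mul_right _ (by omega)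
        have h11 : q ^ 3 ≤ q ^ a := Nat.pow_le_pow_right (by omega) ha3
        have h12 : q + 1 ≤ q ^ 3 := by nlinarith [Nat.mul_le_mul h3 hq]
        omega
    unfold tOrd
    split_ifs with h1 h4 h4
    · exact absurd (hab ▸ h1.add h4) (Nat.not_even_iff_odd.2 ho)
    · rw [mul_comm (q ^ a - 1), mul_comm (q ^ a)]
      exact hoe (by omega) (Nat.not_even_iff_odd.1 h4) hb
    · exact hoe hab (Nat.not_even_iff_odd.1 h1) ha
    · exact absurd (hab ▸ (Nat.not_even_iff_odd.1 h1).add_odd (Nat.not_even_iff_odd.1 h4))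
        (Nat.not_even_iff_odd.2 ho)

/-- At least two orbits, with repeated roots. -/
theorem repeated_bound {p q d m : ℕ} {α : Type*} [DecidableEq α] (hp : 2 ≤ p) (hpq : q = p ∨ p ^ 2 ≤ q)
    (hq4 : q ≠ 2 → 3 ≤ q) (hp3 : p = 2 ∨ 3 ≤ p) (hd : 3 ≤ d)
    (s : Finset α) (f : α → ℕ) (hf : ∀ a ∈ s, 1 ≤ f a) (hs : 2 ≤ s.card) (hm : 2 ≤ m)
    {a₀ : α} (ha₀ : a₀ ∈ s) (hsum : (∑ a ∈ s, f a) + (m - 1) * f a₀ ≤ d) :
    (q + 1) * (∏ a ∈ s, uOrd q (f a)) * p ^ Nat.clog p m ≤ target p q d := by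
  have hq : 2 ≤ q := by
    rcases hpq with h | h
    · omega
    · exact le_trans (by nlinarith) h
  have hqp : p ≤ q := by
    rcases hpq with h | h
    · omega
    · exact le_trans (by nlinarith) h
  obtain ⟨hT, hT'⟩ := target_ge (p := p) (q := q) hd
  obtain ⟨hP, hcard⟩ := prod_uOrd_le (show 1 ≤ q by omega) s f hf
  set D := ∑ a ∈ s, f a with hD
  have hf₀ := hf a₀ ha₀
  have hDm : D + (m - 1) ≤ d := le_trans (Nat.add_le_add_left (Nat.le_mul_of_pos_right _ hf₀) _) hsum
  -- the estimate for small exponent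
  have gen : ∀ k, (q + 1) * p ^ Nat.clog p m ≤ q ^ k - 1 → 0 < k → D - s.card + k ≤ d - 1 →
      (q + 1) * (∏ a ∈ s, uOrd q (f a)) * p ^ Nat.clog p m ≤ target p q d := by
    intro k hk hk0 hle
    refine le_trans ?_ hT
    calc (q + 1) * (∏ a ∈ s, uOrd q (f a)) * p ^ Nat.clog p m
        ≤ q ^ (D - s.card) * (q ^ k - 1) := by
          rw [mul_comm (q + 1), mul_assoc]; exact Nat.mul_le_mul hP hk
      _ = q ^ (D - s.card + k) - q ^ (D - s.card) := by rw [Nat.mul_sub, mul_one, pow_add]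
      _ ≤ q ^ (D - s.card + k) - 1 := Nat.sub_le_sub_left (Nat.one_le_pow _ _ (by omega)) _
      _ ≤ _ := Nat.sub_le_sub_right (Nat.pow_le_pow_right (by omega) hle) 1
  -- a pair of orbit lengths
  have pair : s.card = 2 → D + (m - 1) = d → ∃ b, 1 ≤ b ∧ D = b + 1 ∧ ∏ a ∈ s, uOrd q (f a) = uOrd q b := by
    intro h2 hDd
    have h1 : f a₀ = 1 := by
      by_contra h
      have : (m - 1) * 2 ≤ (m - 1) * f a₀ := Nat.mul_le_mul_left _ (by omega)
      omega
    have hc : (s.erase a₀).card = 1 := by rw [card_erase_of_mem ha₀, h2]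
    obtain ⟨c, hc⟩ := card_eq_one.1 hc
    refine ⟨f c, hf c (mem_of_mem_erase (hc.symm ▸ mem_singleton_self c)), ?_, ?_⟩
    · rw [hD, ← sum_erase_add s f ha₀, hc, sum_singleton, h1]
    · rw [← prod_erase_mul s (fun a => uOrd q (f a)) ha₀, hc, prod_singleton, h1, uOrd_one, mul_one]
  rcases Nat.lt_or_ge m 3 with hm2 | hm3
  · obtain rfl : m = 2 := by omega
    have hc2 : Nat.clog p 2 = 1 := le_antisymm (Nat.clog_le_of_le_pow (by simpa using hp))
      (Nat.clog_pos hp (by omega))
    rcases hpq with rfl | hpq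
    · rcases Nat.lt_or_ge 2 s.card with hs3 | hs2
      · refine gen 3 ?_ (by omega) (by omega)
        rw [hc2, pow_one]
        have : (q + 1) * q + 1 ≤ q ^ 3 := by
          have : q * 2 * q ≤ q * q * q := Nat.mul_le_mul_right _ (Nat.mul_le_mul_left _ hq)
          nlinarith
        omega
      rcases Nat.lt_or_ge (D + 1) d with hlt | hge
      · refine gen 3 ?_ (by omega) (by omega)
        rw [hc2, pow_one]
        have : (q + 1) * q + 1 ≤ q ^ 3 := by
          have : q * 2 * q ≤ q * q * q := Nat.mul_le_mul_right _ (Nat.mul_le_mul_left _ hq)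
          nlinarith
        omega
      obtain ⟨b, hb, hDb, hprod⟩ := pair (by omega) (by omega)
      rw [hprod, succ_mul_uOrd, hc2, pow_one]
      have hbd : b = d - 2 := by omega
      unfold tOrd
      split_ifs with he
      · have hde : Even d := by
          obtain ⟨i, hi⟩ := he; exact ⟨i + 1, by omega⟩
        refine le_trans ?_ (hT' hde)
        rw [hbd, Nat.sub_mul, one_mul, ← pow_succ, show d - 2 + 1 = d - 1 by omega]
        omega
      · have hdo : Odd d := by
          obtain ⟨i, hi⟩ := Nat.not_even_iff_odd.1 he; exact ⟨i + 1, by omega⟩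
        rw [target, if_pos hdo, if_pos rfl, hbd]
    · refine gen 2 ?_ (by omega) (by omega)
      rw [hc2, pow_one]
      have h1 : 2 * p ≤ q := le_trans (by nlinarith) hpq
      have h2 : (q + 1) * p + 1 ≤ q ^ 2 := by nlinarith
      omega
  · rcases eq_or_ne q 2 with rfl | hq2
    · obtain rfl : p = 2 := by omega
      have key : ∀ j, 6 * (j + 5) + 1 ≤ 2 ^ (j + 6) := by
        intro j
        induction j with
        | zero => norm_num
        | succ j ih => rw [pow_succ]; omega
      rcases Nat.lt_or_ge m 6 with hm6 | hm6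
      · have hcl : Nat.clog 2 3 = 2 ∧ Nat.clog 2 4 = 2 ∧ Nat.clog 2 5 = 3 := by
          refine ⟨?_, ?_, ?_⟩ <;> norm_num [Nat.clog_of_two_le, Nat.clog_of_right_le_one]
        obtain rfl | rfl | rfl : m = 3 ∨ m = 4 ∨ m = 5 := by omega
        · rcases Nat.lt_or_ge 2 s.card with hs3 | hs2
          · exact gen 4 (by rw [hcl.1]; norm_num) (by omega) (by omega)
          rcases Nat.lt_or_ge (D + 2) d with hlt | hge
          · exact gen 4 (by rw [hcl.1]; norm_num) (by omega) (by omega)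
          obtain ⟨b, hb, hDb, hprod⟩ := pair (by omega) (by omega)
          rw [hprod, succ_mul_uOrd, hcl.1]
          have hbd : b = d - 3 := by omega
          have h8 : (2 : ℕ) ^ (d - 1) = 4 * 2 ^ (d - 3) := by
            rw [show d - 1 = 2 + (d - 3) by omega, pow_add]; norm_num
          unfold tOrd
          split_ifs with he
          · refine le_trans ?_ hT
            rw [hbd, h8]; omega
          · have hdo : ¬ Odd d := by
              obtain ⟨i, hi⟩ := Nat.not_even_iff_odd.1 he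
              rw [Nat.not_odd_iff_even]; exact ⟨i + 2, by omega⟩
            rw [target, if_neg hdo, if_pos rfl, hbd, mul_comm]; norm_num
        · exact gen 4 (by rw [hcl.2.1]; norm_num) (by omega) (by omega)
        · exact gen 5 (by rw [hcl.2.2]; norm_num) (by omega) (by omega)
      · have h1 := pow_clog_le (p := 2) le_rfl hm
        obtain ⟨j, rfl⟩ : ∃ j, m = j + 6 := ⟨m - 6, by omega⟩
        refine gen (j + 6) ?_ (by omega) (by omega)
        have := key j
        have h2 := Nat.mul_le_mul_left 3 h1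
        omega
    · have hq3 := hq4 hq2
      refine gen m ?_ (by omega) (by omega)
      rcases Nat.lt_or_ge m 4 with hm4 | hm4
      · obtain rfl : m = 3 := by omega
        have : (q + 1) * p ^ Nat.clog p 3 + 1 ≤ q ^ 3 := by
          rcases hp3 with rfl | hp3
          · have : Nat.clog 2 3 = 2 := by norm_num [Nat.clog_of_two_le, Nat.clog_of_right_le_one]
            rw [this]
            have : 4 ≤ q := by
              rcases hpq with h | h
              · exact absurd h hq2
              · simpa using h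
            nlinarith [Nat.mul_le_mul (Nat.mul_le_mul this this) (le_refl q)]
          · have : Nat.clog p 3 = 1 := le_antisymm (Nat.clog_le_of_le_pow (by simpa using hp3))
              (Nat.clog_pos hp (by norm_num))
            rw [this, pow_one]
            have : q * 2 * q ≤ q * q * q := Nat.mul_le_mul_right _ (Nat.mul_le_mul_left _ hq)
            nlinarith
        omega
      · have key : ∀ j, 2 * (j + 3) + 1 ≤ 3 ^ (j + 2) := by
          intro j
          induction j with
          | zero => norm_num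
          | succ j ih => rw [pow_succ]; omega
        obtain ⟨j, rfl⟩ : ∃ j, m = j + 4 := ⟨m - 4, by omega⟩
        have h1 : p ^ Nat.clog p (j + 4) ≤ q * (j + 3) :=
          (pow_clog_le hp hm).trans (Nat.mul_le_mul hqp (by omega))
        have h2 : 2 * (j + 3) + 1 ≤ q ^ (j + 2) := (key j).trans (Nat.pow_le_pow_left hq3 _)
        have h3 : (q + 1) * (q * (j + 3)) + 1 ≤ q ^ (j + 4) := by
          rw [show j + 4 = j + 2 + 2 by rfl, pow_add _ (j + 2)]
          calc (q + 1) * (q * (j + 3)) + 1 ≤ (2 * q) * (q * (j + 3)) + q ^ 2 := by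
                refine Nat.add_le_add (Nat.mul_le_mul_right _ (by omega)) ?_
                exact Nat.one_le_pow _ _ (by omega)
            _ = (2 * (j + 3) + 1) * q ^ 2 := by ring
            _ ≤ _ := Nat.mul_le_mul_right _ h2
        have := Nat.mul_le_mul_left (q + 1) h1
        omega

/-- At least two orbits. -/
theorem many_bound {p q d m : ℕ} {α : Type*} [DecidableEq α] (hp : 2 ≤ p) (hpq : q = p ∨ p ^ 2 ≤ q)
    (hq4 : q ≠ 2 → 3 ≤ q) (hp3 : p = 2 ∨ 3 ≤ p) (hd : 3 ≤ d)
    (s : Finset α) (f : α → ℕ) (hf : ∀ a ∈ s, 1 ≤ f a) (hs : 2 ≤ s.card) (hm : 1 ≤ m)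
    {a₀ : α} (ha₀ : a₀ ∈ s) (hsum : (∑ a ∈ s, f a) + (m - 1) * f a₀ ≤ d) :
    (q + 1) * (∏ a ∈ s, uOrd q (f a)) * p ^ Nat.clog p m ≤ target p q d := by
  rcases eq_or_lt_of_le hm with rfl | hm2
  · rw [Nat.clog_one_right, pow_zero, mul_one]
    simp only [Nat.sub_self, zero_mul, add_zero] at hsum
    have hq : 2 ≤ q := by
      rcases hpq with h | h
      · omega
      · exact le_trans (by nlinarith) h
    obtain ⟨hP, hcard⟩ := prod_uOrd_le (show 1 ≤ q by omega) s f hf
    obtain ⟨hT, -⟩ := target_ge (p := p) (q := q) hd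
    rcases Nat.lt_or_ge ((∑ a ∈ s, f a) - s.card) (d - 2) with hlt | hge
    · refine le_trans ?_ ((sq_sub_one_pow hq hd).trans hT)
      exact Nat.mul_le_mul_left _ (hP.trans (Nat.pow_le_pow_right (by omega) (by omega)))
    obtain ⟨a, b, hab, rfl⟩ := card_eq_two.1 (show s.card = 2 by omega)
    rw [prod_pair hab, ← mul_assoc]
    refine pair_bound hq hd (hf a (by simp)) (hf b (by simp)) ?_
    rw [sum_pair hab] at hsum hge
    rw [card_pair hab] at hge
    omega
  · exact repeated_bound hp hpq hq4 hp3 hd s f hf hs hm2 ha₀ hsum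

end Cfsg.Agent.Lib.MaxOrderGU
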