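import Cfsg.Agent.Lib.LinearOrders.UnitaryOrders

/-!
Elements of large order in `PGU_d(q)`: a unipotent block and a torus block.
-/

set_option autoImplicit false

namespace Cfsg.Agent.Lib.MaxOrderGU

open Cfsg.Agent.Lib.LinearOrders
open Cfsg.Agent.Lib.Unitary
open scoped Matrix

universe u v

variable {F : Type u} [Field F] {q : ℕ}

theorem exists_scalar_of_mem_center {n : ℕ} [Fintype F] (hF : Fintype.card F = q ^ 2) (hn : 2 ≤ n)
    (z : ↥(Cfsg.GU n F q)) (hz : z ∈ Subgroup.center ↥(Cfsg.GU n F q)) :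
    ∃ l : F, ∀ x, z.1.1 *ᵥ x = l • x := by
  refine scalar_of_isotropic_eigen hF hn _ fun v hv => ?_
  rcases eq_or_ne v 0 with rfl | hv0
  · exact ⟨0, by simp⟩
  obtain ⟨θ, hθ0, hθ⟩ := exists_trace_zero_ne_zero hF
  obtain ⟨A, hA, -⟩ := exists_tv hF hv hθ
  obtain ⟨f, hf⟩ := exists_hyp hF hv0 hv
  have h := congrArg (fun X : ↥(Cfsg.GU n F q) => X.1.1 *ᵥ f) (Subgroup.mem_center_iff.1 hz A)
  simp only [GU_mul_mulVec, hA _, hf.symm' hF, mul_one, Matrix.mulVec_add, Matrix.mulVec_smul] at h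
  exact ⟨Cfsg.hermForm n F q (z.1.1 *ᵥ f) v, smul_right_injective _ hθ0 (by
    simp only [smul_smul]; exact (add_left_cancel h).symm)⟩

/-- An element of prescribed order in `PGU_n(q)` from an algebra with semilinear involution. -/
theorem exists_pgu_order [Fintype F] (hF : Fintype.card F = q ^ 2) {A : Type*} [CommRing A] [Algebra F A]
    [Module.Finite F A] {σ : A →+* A} {ℓ : A →ₗ[F] F} (hA : IsUnitAlg q σ ℓ) {n : ℕ} (hn : 2 ≤ n)
    (hfin : Module.finrank F A = n) (v : A) (hv : v * σ v = 1) {T : ℕ} (hvT : v ^ T = 1)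
    (hT : ∀ (k : ℕ) (l : F), v ^ k = algebraMap F A l → T ∣ k) :
    ∃ g : ↥(Cfsg.GU n F q) ⧸ Subgroup.center ↥(Cfsg.GU n F q), orderOf g = T := by
  have hsmul : ∀ (c : F) (a : A), σ (c • a) = c ^ q • σ a := by
    intro c a
    rw [Algebra.smul_def, map_mul, hA.semilin, ← Algebra.smul_def]
  let B : A →ₛₗ[conj hF] A →ₗ[F] F := LinearMap.mk₂'ₛₗ (conj hF) (RingHom.id F)
    (fun a b => ℓ (σ a * b))
    (fun a a' b => by rw [map_add, add_mul, map_add])
    (fun c a b => by rw [hsmul, smul_mul_assoc, map_smul]; rfl)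
    (fun a b b' => by rw [mul_add, map_add])
    (fun c a b => by rw [mul_smul_comm, map_smul]; rfl)
  have hBapp : ∀ a b, B a b = ℓ (σ a * b) := fun _ _ => rfl
  have hS : B.IsSymm := ⟨fun a b => by
    rw [hBapp, hBapp, conj_apply, ← hA.skew, map_mul, hA.invol, mul_comm]⟩
  have hleft : ∀ a, (∀ b, B a b = 0) → a = 0 := by
    intro a ha
    have h := hA.nondeg (σ a) fun b => ha b
    rw [← hA.invol a, h, map_zero]
  have hnd : B.Nondegenerate := ⟨hleft, fun b hb => hleft b fun a => by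
    rw [← hS.eq, hb a, map_zero]⟩
  obtain ⟨b, hb⟩ := Cfsg.Agent.Lib.Forms.exists_orthonormal_herm (conj hF) (conj_ne_id hF)
    (fun a => pow_q_q hF a) n B hS hnd hfin
  have hkey : ∀ a a' : A, Cfsg.hermForm n F q (b.equivFun a) (b.equivFun a') = B a' a := by
    intro a a'
    conv_rhs => rw [← b.sum_equivFun a, ← b.sum_equivFun a']
    generalize b.equivFun a = y
    generalize b.equivFun a' = z
    simp [Cfsg.hermForm, map_sum, LinearMap.map_smulₛₗ, LinearMap.sum_apply, hb, mul_comm]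
  have hmv : ∀ w a, Matrix.mulVec (Algebra.leftMulMatrix b w) (b.equivFun a) = b.equivFun (w * a) :=
    fun w a => Algebra.leftMulMatrix_mulVec_repr b w a
  set M := Algebra.leftMulMatrix b v with hM
  have hpres : ∀ x y, Cfsg.hermForm n F q (Matrix.mulVec M x) (Matrix.mulVec M y) = Cfsg.hermForm n F q x y := by
    intro x y
    obtain ⟨a, rfl⟩ := b.equivFun.surjective x
    obtain ⟨a', rfl⟩ := b.equivFun.surjective y
    rw [hmv, hmv, hkey, hkey, hBapp, hBapp, map_mul σ, show σ v * σ a' * (v * a) = v * σ v * (σ a' * a) by ring,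
      hv, one_mul]
  let u : GL (Fin n) F := ⟨M, Algebra.leftMulMatrix b (σ v),
    by rw [hM, ← map_mul, hv, map_one], by rw [hM, ← map_mul, mul_comm, hv, map_one]⟩
  let x : ↥(Cfsg.GU n F q) := ⟨u, hpres⟩
  refine ⟨QuotientGroup.mk x, Nat.dvd_antisymm (orderOf_dvd_of_pow_eq_one ?_) ?_⟩
  · rw [← QuotientGroup.mk_pow, show x ^ T = 1 from Subtype.ext (Units.ext (by
      simp only [SubmonoidClass.coe_pow, Units.val_pow_eq_pow_val, x, u, hM, ← map_pow, hvT, map_one,
        OneMemClass.coe_one, Units.val_one]))]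
    rfl
  · have hk := pow_orderOf_eq_one (QuotientGroup.mk x : ↥(Cfsg.GU n F q) ⧸ Subgroup.center ↥(Cfsg.GU n F q))
    rw [← QuotientGroup.mk_pow, QuotientGroup.eq_one_iff] at hk
    obtain ⟨l, hl⟩ := exists_scalar_of_mem_center hF hn _ hk
    refine hT _ l (Algebra.leftMulMatrix_injective b ?_)
    rw [map_pow, (Algebra.leftMulMatrix b).commutes]
    apply Matrix.toLin'.injective
    apply LinearMap.ext
    intro w
    rw [Matrix.toLin'_apply, Matrix.toLin'_apply, Algebra.algebraMap_eq_smul_one, Matrix.smul_mulVec,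
      Matrix.one_mulVec]
    exact hl w

/-- A field element generating the norm-one torus of odd degree. -/
theorem exists_oddTorus [Fintype F] (hF : Fintype.card F = q ^ 2) (p : ℕ) [Fact p.Prime] [CharP F p]
    {h : ℕ} (hodd : Odd h) :
    ∃ (A : Type) (_ : CommRing A) (_ : Algebra F A) (_ : Module.Finite F A) (σ : A →+* A) (ℓ : A →ₗ[F] F)
      (v : A), IsUnitAlg q σ ℓ ∧ Module.finrank F A = h ∧ v * σ v = 1 ∧ v ^ (q ^ h + 1) = 1 ∧
        ∀ k : ℕ, v ^ k = 1 → q ^ h + 1 ∣ k := by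
  classical
  have : NeZero h := ⟨by rcases hodd with ⟨i, rfl⟩; omega⟩
  let K := FiniteField.Extension F p h
  have hK : Module.finrank F K = h := FiniteField.finrank_extension F p h
  have : Fintype K := Fintype.ofFinite K
  have hcard : Fintype.card K = q ^ (2 * h) := by
    rw [Fintype.card_eq_nat_card, FiniteField.natCard_extension, Nat.card_eq_fintype_card, hF, ← pow_mul]
  obtain ⟨θ, hθ⟩ := exists_pow_q_hom hF K h
  have hA : IsUnitAlg q θ (Algebra.trace F K) := by
    refine ⟨fun x => ?_, fun c => ?_, fun x => ?_, fun x hx => ?_⟩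
    · rw [hθ, hθ, ← pow_mul, ← pow_add, ← two_mul, ← hcard, FiniteField.pow_card]
    · rw [hθ, ← map_pow, pow_q_pow_odd hF c hodd]
    · rw [hθ, algebraMap_pow_q_trace hF hodd]
    · exact (traceForm_nondegenerate F K).1 x fun y => hx y
  obtain ⟨g, hg⟩ := IsCyclic.exists_ofOrder_eq_natCard (α := Kˣ)
  have hdiv : q ^ h + 1 ∣ orderOf g := by
    rw [hg, Nat.card_units, Nat.card_eq_fintype_card, hcard, pow_mul']
    exact ⟨q ^ h - 1, by simpa using Nat.sq_sub_sq (q ^ h) 1⟩
  set a := g ^ (orderOf g / (q ^ h + 1)) with hadef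
  have hord : orderOf a = q ^ h + 1 := orderOf_pow_orderOf_div (orderOf_pos g).ne' hdiv
  have ha : (a : K) ^ (q ^ h + 1) = 1 := by
    rw [← Units.val_pow_eq_pow_val, ← hord, pow_orderOf_eq_one, Units.val_one]
  refine ⟨K, inferInstance, inferInstance, inferInstance, θ, Algebra.trace F K, (a : K), hA, hK, ?_, ha, ?_⟩
  · rw [hθ, ← pow_succ', ha]
  · intro k hk
    rw [← hord]
    exact orderOf_dvd_of_pow_eq_one (Units.ext (by simpa using hk))

/-- A split torus element of order `q ^ (2 h) - 1` in dimension `2 h`. -/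
theorem exists_evenTorus [Fintype F] (hF : Fintype.card F = q ^ 2) (p : ℕ) [Fact p.Prime] [CharP F p]
    {h : ℕ} (hh : 1 ≤ h) :
    ∃ (A : Type) (_ : CommRing A) (_ : Algebra F A) (_ : Module.Finite F A) (σ : A →+* A) (ℓ : A →ₗ[F] F)
      (v : A), IsUnitAlg q σ ℓ ∧ Module.finrank F A = 2 * h ∧ v * σ v = 1 ∧ v ^ (q ^ (2 * h) - 1) = 1 ∧
        ∀ k : ℕ, v ^ k = 1 → q ^ (2 * h) - 1 ∣ k := by
  classical
  have : NeZero h := ⟨by omega⟩
  let K := FiniteField.Extension F p h
  have hK : Module.finrank F K = h := FiniteField.finrank_extension F p h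
  have : Fintype K := Fintype.ofFinite K
  have hcard : Fintype.card K = q ^ (2 * h) := by
    rw [Fintype.card_eq_nat_card, FiniteField.natCard_extension, Nat.card_eq_fintype_card, hF, ← pow_mul]
  have hodd' : Odd (2 * h - 1) := ⟨h - 1, by omega⟩
  obtain ⟨θ, hθ⟩ := exists_pow_q_hom hF K 1
  obtain ⟨θ', hθ'⟩ := exists_pow_q_hom hF K (2 * h - 1)
  have h12 : ∀ x, θ (θ' x) = x := fun x => by
    rw [hθ, hθ', ← pow_mul, ← pow_add, Nat.sub_add_cancel (by omega : 1 ≤ 2 * h), ← hcard, FiniteField.pow_card]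
  have h21 : ∀ x, θ' (θ x) = x := fun x => by
    rw [hθ, hθ', ← pow_mul, ← pow_add, Nat.add_sub_cancel' (by omega : 1 ≤ 2 * h), ← hcard, FiniteField.pow_card]
  let σ : K × K →+* K × K := RingHom.prod (θ.comp (RingHom.snd K K)) (θ'.comp (RingHom.fst K K))
  let ℓ : K × K →ₗ[F] F := (Algebra.trace F K).coprod (Algebra.trace F K)
  have hA : IsUnitAlg q σ ℓ := by
    refine ⟨fun x => Prod.ext (h12 _) (h21 _), fun c => Prod.ext ?_ ?_, fun x => ?_, fun x hx => ?_⟩
    · change θ (algebraMap F K c) = algebraMap F K (c ^ q)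
      rw [hθ, pow_one, map_pow]
    · change θ' (algebraMap F K c) = algebraMap F K (c ^ q)
      rw [hθ', ← map_pow, pow_q_pow_odd hF c hodd']
    · change Algebra.trace F K (θ x.2) + Algebra.trace F K (θ' x.1) =
        (Algebra.trace F K x.1 + Algebra.trace F K x.2) ^ q
      rw [hθ, hθ', algebraMap_pow_q_trace hF odd_one, algebraMap_pow_q_trace hF hodd',
        add_pow_q hF, add_comm]
    · refine Prod.ext ((traceForm_nondegenerate F K).1 _ fun y => ?_)
        ((traceForm_nondegenerate F K).1 _ fun y => ?_)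
      · simpa [ℓ, Algebra.traceForm_apply] using hx (y, 0)
      · simpa [ℓ, Algebra.traceForm_apply] using hx (0, y)
  obtain ⟨g, hg⟩ := IsCyclic.exists_ofOrder_eq_natCard (α := Kˣ)
  have hord : orderOf g = q ^ (2 * h) - 1 := by
    rw [hg, Nat.card_units, Nat.card_eq_fintype_card, hcard]
  have hg1 : ∀ y : Kˣ, (y : K) ^ (q ^ (2 * h) - 1) = 1 := fun y => by
    rw [← hcard, ← Units.val_pow_eq_pow_val, ← Fintype.card_units, pow_card_eq_one, Units.val_one]
  refine ⟨K × K, inferInstance, inferInstance, inferInstance, σ, ℓ, ((g : K), θ' ((g⁻¹ : Kˣ) : K)), hA,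
    by rw [Module.finrank_prod, hK, two_mul], ?_, ?_, ?_⟩
  · refine Prod.ext ?_ ?_
    · change (g : K) * θ (θ' ((g⁻¹ : Kˣ) : K)) = 1
      rw [h12, Units.mul_inv]
    · change θ' ((g⁻¹ : Kˣ) : K) * θ' (g : K) = 1
      rw [← map_mul, Units.inv_mul, map_one]
  · refine Prod.ext (hg1 g) ?_
    change θ' ((g⁻¹ : Kˣ) : K) ^ _ = 1
    rw [← map_pow θ', hg1, map_one]
  · intro k hk
    rw [← hord]
    exact orderOf_dvd_of_pow_eq_one (Units.ext (by simpa using congrArg Prod.fst hk))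

/-- A unipotent block plus a torus block. -/
theorem exists_pgu_sum [Fintype F] (hF : Fintype.card F = q ^ 2) (p : ℕ) [Fact p.Prime] [CharP F p]
    {A' : Type v} [CommRing A'] [Algebra F A'] [Module.Finite F A'] [Nontrivial A'] {σ' : A' →+* A'}
    {ℓ' : A' →ₗ[F] F} (hA' : IsUnitAlg q σ' ℓ') {d₀ n S : ℕ} (hd₀ : 1 ≤ d₀) (hn : 2 ≤ n)
    (hdim : d₀ + Module.finrank F A' = n) (w : A') (hw : w * σ' w = 1) (hwS : w ^ S = 1)
    (hS : ∀ k : ℕ, w ^ k = 1 → S ∣ k) (hcop : (unipExp p d₀).Coprime S) :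
    ∃ g : ↥(Cfsg.GU n F q) ⧸ Subgroup.center ↥(Cfsg.GU n F q), orderOf g = unipExp p d₀ * S := by
  obtain ⟨A, _, _, _, σ, ℓ, v, hA, hfinA, hv, hvP, -, hvT⟩ := exists_unipotent_unitAlg hF p hd₀
  have : Nontrivial A := Module.nontrivial_of_finrank_pos (R := F) (by omega)
  refine exists_pgu_order hF (isUnitAlg_prod hF hA hA') hn (by rw [Module.finrank_prod, hfinA, hdim])
    ((v, w) : A × A') (Prod.ext hv hw) (Prod.ext ?_ ?_) fun k l hkl => ?_
  · change v ^ _ = 1
    rw [pow_mul, hvP, one_pow]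
  · change w ^ _ = 1
    rw [mul_comm, pow_mul, hwS, one_pow]
  · have e1 : v ^ k = algebraMap F A l := congrArg Prod.fst hkl
    have e2 : w ^ k = algebraMap F A' l := congrArg Prod.snd hkl
    have hPk := hvT k l e1
    have hl : l = 1 := by
      obtain ⟨j, hj⟩ := hPk
      refine (algebraMap F A).injective ?_
      rw [← e1, hj, pow_mul, hvP, one_pow, map_one]
    rw [hl, map_one] at e2
    exact hcop.mul_dvd_of_dvd_of_dvd hPk (hS k e2)

end Cfsg.Agent.Lib.MaxOrderGU
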