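import Cfsg.Agent.Lib.MaxOrderGU.Arith
import Cfsg.Agent.Lib.ClassicalOrder.Core
import Cfsg.Agent.Lib.Unitary.Basic

/-!
Upper bound for element orders in `PGU_d(q)`: the roots of the characteristic polynomial of a unitary
matrix form a multiset stable under `a ↦ (a ^ q)⁻¹`.
-/

set_option autoImplicit false

namespace Cfsg.Agent.Lib.MaxOrderGU

open Polynomial Finset Function

variable {K : Type*} [Field K]

/-- `a ↦ (a ^ q)⁻¹`. -/
def invFrob (q : ℕ) (a : K) : K := (a ^ q)⁻¹

theorem invFrob_iterate (q n : ℕ) (a : K) :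
    (invFrob q)^[n] a = if Even n then a ^ q ^ n else (a ^ q ^ n)⁻¹ := by
  induction n with
  | zero => simp
  | succ n ih =>
    rw [iterate_succ_apply', ih, invFrob]
    by_cases h : Even n
    · rw [if_pos h, if_neg (by simp [Nat.even_add_one, h]), ← pow_mul, pow_succ]
    · rw [if_neg h, if_pos (Nat.even_add_one.2 h), inv_pow, inv_inv, ← pow_mul, pow_succ]

theorem pow_tOrd_eq_one {q n : ℕ} (hq : 2 ≤ q) {a : K} (ha : a ≠ 0)
    (h : (invFrob q)^[n] a = a) : a ^ tOrd q n = 1 := by
  rw [invFrob_iterate] at h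
  unfold tOrd
  split_ifs with he
  · rw [if_pos he] at h
    have h1 : a ^ (q ^ n - 1) * a = a := by
      rw [← pow_succ, Nat.sub_add_cancel (Nat.one_le_pow _ _ (by omega))]; exact h
    exact mul_right_cancel₀ ha (h1.trans (one_mul a).symm)
  · rw [if_neg he] at h
    rw [pow_succ]
    calc a ^ q ^ n * a = a ^ q ^ n * (a ^ q ^ n)⁻¹ := by rw [h]
      _ = 1 := mul_inv_cancel₀ (pow_ne_zero _ ha)

theorem invFrob_iterate_pow (q n u : ℕ) (a : K) :
    (invFrob q)^[n] (a ^ u) = ((invFrob q)^[n] a) ^ u := by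
  rw [invFrob_iterate, invFrob_iterate]
  split_ifs
  · exact pow_right_comm a u _
  · rw [pow_right_comm a u, inv_pow]

set_option linter.unusedSectionVars false

variable [Finite K] [DecidableEq K] (q : ℕ)

/-- The orbit of `a` under `invFrob q`. -/
noncomputable def orb (a : K) : Finset K :=
  (Finset.range (minimalPeriod (invFrob q) a)).image fun i => (invFrob q)^[i] a

variable {q}

theorem orb_card (a : K) : (orb q a).card = minimalPeriod (invFrob q) a := by
  rw [orb, card_image_of_injOn, card_range]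
  simpa [Set.InjOn] using iterate_injOn_Iio_minimalPeriod (f := invFrob q) (x := a)

variable (hinj : Injective (invFrob (K := K) q))

include hinj in
theorem period_pos (a : K) : 0 < minimalPeriod (invFrob q) a :=
  minimalPeriod_pos_of_mem_periodicPts (hinj.mem_periodicPts a)

include hinj in
theorem iterate_mem_orb (a : K) (i : ℕ) : (invFrob q)^[i] a ∈ orb q a :=
  mem_image.2 ⟨i % minimalPeriod (invFrob q) a, Finset.mem_range.2 (Nat.mod_lt _ (period_pos hinj a)),
    iterate_mod_minimalPeriod_eq⟩

include hinj in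
theorem mem_orb_self (a : K) : a ∈ orb q a := iterate_mem_orb hinj a 0

include hinj in
theorem orb_eq_of_mem {a b : K} (h : b ∈ orb q a) : orb q b = orb q a := by
  obtain ⟨i, -, rfl⟩ := mem_image.1 h
  refine eq_of_subset_of_card_le (fun c hc => ?_) ?_
  · obtain ⟨j, -, rfl⟩ := mem_image.1 hc
    rw [← iterate_add_apply]
    exact iterate_mem_orb hinj a _
  · rw [orb_card, orb_card, minimalPeriod_apply_iterate (hinj.mem_periodicPts a)]

theorem count_iterate {R : Multiset K} (hR : ∀ a, R.count (invFrob q a) = R.count a) (a : K) (i : ℕ) :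
    R.count ((invFrob q)^[i] a) = R.count a := by
  induction i with
  | zero => rfl
  | succ i ih => rw [iterate_succ_apply', hR, ih]

/-- The numerical core. -/
theorem exists_exponent {p d : ℕ} (hp : 2 ≤ p) (hpq : q = p ∨ p ^ 2 ≤ q) (hq4 : q ≠ 2 → 3 ≤ q)
    (hd : 3 ≤ d) (h32 : ¬ (d = 3 ∧ q = 2)) (hinj : Injective (invFrob (K := K) q))
    (R : Multiset K) (hR0 : ∀ a ∈ R, a ≠ 0) (hcard : Multiset.card R = d)
    (hR : ∀ a, R.count (invFrob q a) = R.count a) :
    ∃ (L k : ℕ) (c : K), 0 < L ∧ L * p ^ k ≤ target p q d ∧ c ^ q ^ 2 = c ∧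
      (∀ a ∈ R, a ^ L = c) ∧ ∀ a, R.count a ≤ p ^ k := by
  classical
  have hqp : p ≤ q := by
    rcases hpq with h | h
    · omega
    · exact le_trans (by nlinarith) h
  have hq : 2 ≤ q := hp.trans hqp
  set D := R.toFinset with hD
  have hDne : D.Nonempty := by
    rw [hD, Multiset.toFinset_nonempty, ← Multiset.card_pos, hcard]; omega
  obtain ⟨a₀, ha₀, hmax⟩ := D.exists_max_image (fun a => R.count a) hDne
  set m := R.count a₀ with hm
  have hm1 : 1 ≤ m := Multiset.one_le_count_iff_mem.2 (Multiset.mem_toFinset.1 ha₀)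
  have hle : ∀ a, R.count a ≤ m := by
    intro a
    rcases Nat.eq_zero_or_pos (R.count a) with h | h
    · omega
    · exact hmax a (Multiset.mem_toFinset.2 (Multiset.count_pos.1 h))
  have hclog : ∀ a, R.count a ≤ p ^ Nat.clog p m := fun a =>
    (hle a).trans (Nat.le_pow_clog (by omega) m)
  have hsub : ∀ a ∈ D, orb q a ⊆ D := by
    intro a ha b hb
    obtain ⟨i, -, rfl⟩ := mem_image.1 hb
    rw [hD, Multiset.mem_toFinset, ← Multiset.count_pos, count_iterate hR, Multiset.count_pos]
    exact Multiset.mem_toFinset.1 ha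
  set O := D.image (orb q) with hO
  set o₀ := orb q a₀ with ho₀
  have ho₀O : o₀ ∈ O := mem_image_of_mem _ ha₀
  have hfib : ∀ o ∈ O, D.filter (fun a => orb q a = o) = o := by
    intro o ho
    obtain ⟨b, hb, rfl⟩ := mem_image.1 ho
    ext a
    rw [Finset.mem_filter]
    exact ⟨fun ⟨_, h⟩ => h ▸ mem_orb_self hinj a, fun h => ⟨hsub b hb h, orb_eq_of_mem hinj h⟩⟩
  have hcardD : D.card = ∑ o ∈ O, o.card := by
    rw [card_eq_sum_card_fiberwise (f := orb q) (t := O) fun a ha => mem_image_of_mem _ ha]
    exact sum_congr rfl fun o ho => by rw [hfib o ho]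
  have hpos : ∀ o ∈ O, 1 ≤ o.card := fun o ho => by
    obtain ⟨b, -, rfl⟩ := mem_image.1 ho
    exact card_pos.2 ⟨b, mem_orb_self hinj b⟩
  have hconst : ∀ a ∈ o₀, R.count a = m := by
    intro a ha
    obtain ⟨i, -, rfl⟩ := mem_image.1 ha
    exact count_iterate hR _ _
  have hsum : ∑ a ∈ D, R.count a = d := hcard ▸ Multiset.toFinset_sum_count_eq R
  have hkill : ∀ a ∈ R, a ^ tOrd q (orb q a).card = 1 := fun a ha =>
    pow_tOrd_eq_one hq (hR0 a ha) (by rw [orb_card]; exact iterate_minimalPeriod)
  rcases le_or_gt O.card 1 with h1 | h2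
  · -- a single orbit
    have hOe : O = {o₀} := (card_le_one_iff_subset_singleton.1 h1).elim fun o ho => by
      have := ho ho₀O
      rw [mem_singleton] at this
      subst this
      exact Subset.antisymm ho (singleton_subset_iff.2 ho₀O)
    have hDo : D = o₀ := by
      refine Subset.antisymm (fun a ha => ?_) (hsub a₀ ha₀)
      have : orb q a ∈ O := mem_image_of_mem _ ha
      rw [hOe, mem_singleton] at this
      exact this ▸ mem_orb_self hinj a
    have hnm : o₀.card * m = d := by
      rw [← hsum, hDo, sum_const_nat hconst]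
    set u := uOrd q o₀.card with hu
    set c := a₀ ^ u with hc
    have hc1 : c ^ (q + 1) = 1 := by
      rw [hc, ← pow_mul, mul_comm, hu, succ_mul_uOrd]
      exact hkill a₀ (Multiset.mem_toFinset.1 ha₀)
    have hfix : invFrob q c = c := by
      rw [invFrob]
      refine inv_eq_of_mul_eq_one_right ?_
      rw [← pow_succ, hc1]
    refine ⟨u, Nat.clog p m, c, uOrd_pos hq (hpos o₀ ho₀O), single_bound hp hqp hd h32 hnm, ?_, ?_,
      hclog⟩
    · have h2 : (invFrob q)^[2] c = c := by rw [iterate_succ_apply', iterate_one, hfix, hfix]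
      rwa [invFrob_iterate, if_pos even_two] at h2
    · intro a ha
      have : a ∈ o₀ := hDo ▸ Multiset.mem_toFinset.2 ha
      obtain ⟨i, -, rfl⟩ := mem_image.1 this
      rw [← invFrob_iterate_pow, ← hc]
      exact iterate_fixed hfix i
  · refine ⟨(q + 1) * ∏ o ∈ O, uOrd q o.card, Nat.clog p m, 1,
      Nat.mul_pos (by omega) (prod_pos fun o ho => uOrd_pos hq (hpos o ho)),
      many_bound hp hpq hq4 (by omega) hd O Finset.card hpos h2 hm1 ho₀O ?_, one_pow _, ?_, hclog⟩
    · rw [← hcardD, ← hsum]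
      calc D.card + (m - 1) * o₀.card = ∑ a ∈ D, 1 + ∑ a ∈ o₀, (m - 1) := by
            rw [sum_const, sum_const, smul_eq_mul, smul_eq_mul, mul_one, mul_comm (m - 1)]
        _ ≤ ∑ a ∈ D, 1 + ∑ a ∈ D, (R.count a - 1) := by
            refine Nat.add_le_add_left ?_ _
            rw [← sum_congr rfl (fun a ha => by rw [hconst a ha] : ∀ a ∈ o₀, R.count a - 1 = m - 1)]
            exact sum_le_sum_of_subset (hsub a₀ ha₀)
        _ = _ := by
            rw [← sum_add_distrib]
            exact sum_congr rfl fun a ha =>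
              Nat.add_sub_cancel' (Multiset.one_le_count_iff_mem.2 (Multiset.mem_toFinset.1 ha))
    · intro a ha
      have ho : orb q a ∈ O := mem_image_of_mem _ (Multiset.mem_toFinset.2 ha)
      obtain ⟨j, hj⟩ : tOrd q (orb q a).card ∣ (q + 1) * ∏ o ∈ O, uOrd q o.card := by
        rw [← succ_mul_uOrd]
        exact mul_dvd_mul_left _ (dvd_prod_of_mem (fun o : Finset K => uOrd q o.card) ho)
      rw [hj, pow_mul, hkill a ha, one_pow]

omit [DecidableEq K] in
/-- Elements fixed by `x ↦ x ^ |F|` come from `F`. -/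
theorem mem_range_of_pow_card {F : Type*} [Field F] [Fintype F] [Algebra F K] {c : K}
    (h : c ^ Fintype.card F = c) : ∃ x : F, algebraMap F K x = c := by
  classical
  by_contra hne
  push Not at hne
  set S : Finset K := Finset.univ.image (algebraMap F K) with hS
  have hcS : c ∉ S := by simpa [hS] using hne
  have hP : (X ^ Fintype.card F - X : K[X]) ≠ 0 :=
    FiniteField.X_pow_card_sub_X_ne_zero K Fintype.one_lt_card
  have hle := Polynomial.card_le_degree_of_subset_roots (p := (X ^ Fintype.card F - X : K[X]))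
    (Z := insert c S) (fun a ha => by
      rw [Finset.mem_val, Finset.mem_insert] at ha
      rw [mem_roots hP, IsRoot, eval_sub, eval_pow, eval_X, sub_eq_zero]
      rcases ha with rfl | ha
      · exact h
      · obtain ⟨x, -, rfl⟩ := Finset.mem_image.1 ha
        rw [← map_pow, FiniteField.pow_card])
  rw [card_insert_of_notMem hcS, hS, card_image_of_injective _ (algebraMap F K).injective, card_univ,
    FiniteField.X_pow_card_sub_X_natDegree_eq K Fintype.one_lt_card] at hle
  omega

omit [Finite K] [DecidableEq K] in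
/-- The roots of the reverse of a product of linear factors. -/
theorem roots_reverse_prod (S : Multiset K) (hS : ∀ a ∈ S, a ≠ 0) :
    ∃ c₂ : K, c₂ ≠ 0 ∧ ((S.map fun a => X - Polynomial.C a).prod).reverse =
      Polynomial.C c₂ * ((S.map (fun x => x⁻¹)).map fun a => X - Polynomial.C a).prod := by
  induction S using Multiset.induction_on with
  | empty =>
    exact ⟨1, one_ne_zero, by
      simp only [Multiset.map_zero, Multiset.prod_zero, map_one, mul_one]
      exact (congrArg reverse C_1.symm).trans ((reverse_C 1).trans C_1)⟩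
  | cons a S ih =>
    obtain ⟨c₂, hc₂, hc₂'⟩ := ih fun b hb => hS b (Multiset.mem_cons_of_mem hb)
    have ha := hS a (Multiset.mem_cons_self a S)
    refine ⟨-a * c₂, mul_ne_zero (neg_ne_zero.mpr ha) hc₂, ?_⟩
    rw [Multiset.map_cons, Multiset.prod_cons, reverse_mul_of_domain, hc₂',
      Multiset.map_cons, Multiset.map_cons, Multiset.prod_cons]
    have hlin : (X - Polynomial.C a).reverse = Polynomial.C (-a) * (X - Polynomial.C a⁻¹) := by
      rw [reverse, natDegree_X_sub_C, reflect_sub, reflect_C, ← pow_one X, reflect_monomial]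
      rw [mul_sub, ← map_mul, neg_mul, mul_inv_cancel₀ ha]
      simp only [revAt_le (le_refl 1), map_neg, map_one, Nat.sub_self, pow_zero, pow_one]
      ring
    rw [hlin, map_mul]
    ring

open scoped Matrix in
/-- A unitary matrix has a small scalar power. -/
theorem exists_scalar_pow {F : Type*} [Field F] [Fintype F] {p f d q : ℕ} (hp : p.Prime) (hf : 1 ≤ f)
    (hqp : q = p ^ f) (hF : Fintype.card F = q ^ 2) (hd : 3 ≤ d) (h32 : ¬ (d = 3 ∧ q = 2))
    (M : Matrix (Fin d) (Fin d) F) (hM : Mᵀ * M.map (Cfsg.Agent.Lib.Unitary.conj hF) = 1) :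
    ∃ (N : ℕ) (c : F), 0 < N ∧ N ≤ target p q d ∧ M ^ N = c • (1 : Matrix (Fin d) (Fin d) F) := by
  classical
  have : Fact p.Prime := ⟨hp⟩
  have hcharF : CharP F p := by
    obtain ⟨r, hr⟩ := CharP.exists F
    have hr' := CharP.char_is_prime F r
    obtain ⟨n, -, hn⟩ := FiniteField.card F r
    have : r = p := by
      have h1 : r ∣ p ^ (f * 2) := by
        rw [pow_mul, ← hqp, ← hF, hn]; exact dvd_pow_self _ n.ne_zero
      exact (Nat.prime_dvd_prime_iff_eq hr' hp).1 (hr'.dvd_of_dvd_pow h1)
    exact this ▸ hr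
  set σ := Cfsg.Agent.Lib.Unitary.conj hF with hσ
  have hinvM : (M.map σ)ᵀ * M = 1 := by
    rw [← Matrix.transpose_transpose M, ← Matrix.transpose_mul, Matrix.transpose_transpose, hM,
      Matrix.transpose_one]
  have hMu : IsUnit M := IsUnit.of_mul_eq_one_right _ hinvM
  set cF := M.charpoly with hcF
  set L := cF.SplittingField
  have : Finite L := Module.finite_of_finite F
  have : CharP L p := charP_of_injective_algebraMap (algebraMap F L).injective p
  set cK := cF.map (algebraMap F L) with hcK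
  have hmonic : cK.Monic := (Matrix.charpoly_monic M).map _
  have hsplit : cK.Splits := SplittingField.splits cF
  have hprod : cK = (cK.roots.map fun a => X - Polynomial.C a).prod :=
    hsplit.eq_prod_roots_of_monic hmonic
  have hdeg : Multiset.card cK.roots = d := by
    rw [← hsplit.natDegree_eq_card_roots, hcK, natDegree_map, hcF,
      Matrix.charpoly_natDegree_eq_dim, Fintype.card_fin]
  have hc0 : cF.coeff 0 ≠ 0 := by
    intro h0
    have hdet := (Matrix.isUnit_iff_isUnit_det M).mp hMu
    rw [Matrix.det_eq_sign_charpoly_coeff, ← hcF, h0, mul_zero] at hdet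
    exact not_isUnit_zero hdet
  have hR0 : ∀ a ∈ cK.roots, a ≠ 0 := by
    intro a ha h0
    subst h0
    rw [mem_roots', IsRoot, ← coeff_zero_eq_eval_zero, hcK, coeff_map] at ha
    exact hc0 ((_root_.map_eq_zero _).mp ha.2)
  -- the Frobenius of `L` extending `conj`
  let θ : L →+* L := iterateFrobenius L p f
  have hθ : ∀ x, θ x = x ^ q := fun x => by rw [iterateFrobenius_def, ← hqp]
  have hinj : Injective (invFrob (K := L) q) := fun x y h => by
    apply θ.injective
    rw [hθ, hθ]
    exact inv_injective h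
  have hkey : cK.roots.map θ = cK.roots.map (fun x => x⁻¹) := by
    have h1 : cF.map σ = Polynomial.C ((-1) ^ Fintype.card (Fin d) * Ring.inverse M.det) * cF.reverse := by
      rw [hcF, ← Matrix.charpoly_map, ← Matrix.charpoly_transpose, ← Matrix.inv_eq_left_inv hinvM,
        Matrix.charpoly_inv M hMu]
      simp only [Matrix.reverse_charpoly, map_mul, map_pow, map_neg, map_one]
    have h2 : cK.map θ = Polynomial.C (algebraMap F L
        ((-1) ^ Fintype.card (Fin d) * Ring.inverse M.det)) * cK.reverse := by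
      have h := congrArg (Polynomial.map (algebraMap F L)) h1
      rw [Polynomial.map_mul, map_C, Polynomial.map_map] at h
      rw [hcK, Polynomial.map_map]
      convert h using 2
      · ext x
        rw [RingHom.comp_apply, RingHom.comp_apply, hθ, hσ, Cfsg.Agent.Lib.Unitary.conj_apply, map_pow]
      · rw [reverse, reverse, ← reflect_map, natDegree_map]
    have h3 := hsplit.roots_map θ
    obtain ⟨c₂, hc₂, hc₂'⟩ := roots_reverse_prod cK.roots hR0
    rw [← hprod] at hc₂'
    have hne : algebraMap F L ((-1) ^ Fintype.card (Fin d) * Ring.inverse M.det) ≠ 0 := by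
      rw [_root_.map_ne_zero, Ring.inverse_eq_inv']
      exact mul_ne_zero (pow_ne_zero _ (by norm_num))
        (inv_ne_zero ((Matrix.isUnit_iff_isUnit_det M).mp hMu).ne_zero)
    rw [← h3, h2, roots_C_mul _ hne, hc₂', roots_C_mul _ hc₂, roots_multiset_prod_X_sub_C]
  have hRmap : cK.roots.map (invFrob q) = cK.roots := by
    rw [show (invFrob q : L → L) = (fun x => x⁻¹) ∘ θ from funext fun x => by simp [invFrob, hθ],
      ← Multiset.map_map, hkey, Multiset.map_map]
    exact (Multiset.map_congr rfl fun x _ => inv_inv x).trans (Multiset.map_id' _)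
  have hcount : ∀ a, cK.roots.count (invFrob q a) = cK.roots.count a := by
    intro a
    conv_lhs => rw [← hRmap]
    exact Multiset.count_map_eq_count' _ _ hinj _
  have hpq : q = p ∨ p ^ 2 ≤ q := by
    rcases eq_or_lt_of_le hf with h | h
    · left; rw [hqp, ← h, pow_one]
    · right; rw [hqp]; exact Nat.pow_le_pow_right hp.pos h
  have hq4 : q ≠ 2 → 3 ≤ q := fun h => by
    have : 2 ≤ q := by rw [hqp]; exact le_trans hp.two_le (Nat.le_self_pow (by omega) p)
    omega
  obtain ⟨S, k, c, hS, hbound, hcfix, hpow, hmult⟩ :=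
    exists_exponent hp.two_le hpq hq4 hd h32 hinj cK.roots hR0 hdeg hcount
  obtain ⟨c', hc'⟩ := mem_range_of_pow_card (F := F) (c := c) (by rw [hF]; exact hcfix)
  refine ⟨S * p ^ k, c' ^ p ^ k, Nat.mul_pos hS (pow_pos hp.pos k), hbound, ?_⟩
  have hdvdK : cK ∣ (X ^ S - Polynomial.C c) ^ p ^ k := by
    refine ClassicalOrder.splits_dvd hmonic hprod (Multiset.le_iff_count.mpr fun a => ?_)
    rw [roots_pow, Multiset.count_nsmul]
    rcases Nat.eq_zero_or_pos (cK.roots.count a) with h0 | hpos
    · rw [h0]; exact Nat.zero_le _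
    · have ha := Multiset.count_pos.mp hpos
      have hne : (X ^ S - Polynomial.C c) ≠ 0 := X_pow_sub_C_ne_zero hS _
      have hmem : a ∈ (X ^ S - Polynomial.C c).roots := by
        rw [mem_roots hne]; simp [hpow a ha]
      have := Multiset.count_pos.mpr hmem
      calc cK.roots.count a ≤ p ^ k * 1 := by rw [mul_one]; exact hmult a
        _ ≤ _ := Nat.mul_le_mul_left _ this
  have hdvdF : cF ∣ X ^ (S * p ^ k) - Polynomial.C (c' ^ p ^ k) := by
    rw [← Polynomial.map_dvd_map (algebraMap F L) (algebraMap F L).injective (Matrix.charpoly_monic M)]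
    rw [sub_pow_char_pow] at hdvdK
    rw [Polynomial.map_sub, Polynomial.map_pow, map_X, map_C, map_pow (algebraMap F L), hc',
      map_pow Polynomial.C, pow_mul]
    exact hdvdK
  obtain ⟨P, hP⟩ := hdvdF
  have := congrArg (Polynomial.aeval M) hP
  rw [map_mul, Matrix.aeval_self_charpoly, zero_mul, map_sub, map_pow, aeval_X, aeval_C,
    sub_eq_zero] at this
  rw [this, Algebra.algebraMap_eq_smul_one]

open scoped Matrix in
/-- Element orders in `PGU_d(q)`. -/
theorem orderOf_le {F : Type*} [Field F] [Fintype F] {p f d q : ℕ} (hp : p.Prime) (hf : 1 ≤ f)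
    (hqp : q = p ^ f) (hF : Fintype.card F = q ^ 2) (hd : 3 ≤ d) (h32 : ¬ (d = 3 ∧ q = 2))
    (g : ↥(Cfsg.GU d F q) ⧸ Subgroup.center ↥(Cfsg.GU d F q)) : orderOf g ≤ target p q d := by
  obtain ⟨h, rfl⟩ := QuotientGroup.mk_surjective g
  have hM : (h.1.1)ᵀ * h.1.1.map (Cfsg.Agent.Lib.Unitary.conj hF) = 1 := by
    ext i j
    have h1 := h.2 (Pi.single i 1) (Pi.single j 1)
    have h2 := Cfsg.Agent.Lib.Unitary.herm_std (n := d) hF i j
    rw [h2] at h1
    simp only [Cfsg.hermForm, Units.coeHom_apply, Matrix.mulVec_single_one] at h1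
    rw [Matrix.mul_apply, Matrix.one_apply, ← h1]
    simp [Matrix.transpose_apply, Cfsg.Agent.Lib.Unitary.conj_apply]
  obtain ⟨N, c, hN, hle, hc⟩ := exists_scalar_pow hp hf hqp hF hd h32 h.1.1 hM
  refine le_trans (orderOf_le_of_pow_eq_one hN ?_) hle
  rw [← QuotientGroup.mk_pow, QuotientGroup.eq_one_iff, Subgroup.mem_center_iff]
  intro k
  apply Subtype.ext
  apply Units.ext
  simp only [Subgroup.coe_mul, SubmonoidClass.coe_pow, Units.val_mul, Units.val_pow_eq_pow_val, hc]
  simp

end Cfsg.Agent.Lib.MaxOrderGU
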